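import Groth.Agent.ZetaAbs.Count

/-! A scheme of finite type over a finite field is of finite type over `ℤ`. -/

set_option autoImplicit false
universe u
open CategoryTheory AlgebraicGeometry

namespace ZetaAbs

variable (k : Type u) [Field k]

/-- The structure morphism `Spec k → Spec ℤ`. -/
noncomputable def toInt : Spec (CommRingCat.of k) ⟶ Spec (CommRingCat.of (ULift.{u} ℤ)) :=
  Spec.map (CommRingCat.ofHom ((Int.castRingHom k).comp ULift.ringEquiv.toRingHom))

variable {k} [Finite k]

theorem lft_toInt {X : Scheme.{u}} (f : X ⟶ Spec (CommRingCat.of k)) [LocallyOfFiniteType f] :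
    LocallyOfFiniteType (f ≫ toInt k) := by
  haveI : LocallyOfFiniteType (toInt k) := by
    refine (HasRingHomProperty.Spec_iff (P := @LocallyOfFiniteType)).mpr ?_
    haveI : Module.Finite ℤ k := inferInstance
    have h : (Int.castRingHom k).FiniteType := by
      rw [← algebraMap_int_eq, RingHom.finiteType_algebraMap]
      infer_instance
    exact h.comp (RingHom.FiniteType.of_surjective _ ULift.ringEquiv.surjective)
  infer_instance

theorem qc_toInt {X : Scheme.{u}} (f : X ⟶ Spec (CommRingCat.of k)) [QuasiCompact f] :
    QuasiCompact (f ≫ toInt k) := by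
  unfold toInt
  infer_instance

end ZetaAbs
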