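import Mathlib

/-! The Euler product of a norm-summable family `w`: the sum over all finitely supported exponent
functions of the monomials in `w` converges absolutely and is nonzero. -/

set_option autoImplicit false
open Filter Topology

namespace ZetaAbs

variable {ι : Type*} (w : ι → ℂ)

noncomputable def mon (α : ι →₀ ℕ) : ℂ := α.prod fun i m => w i ^ m

theorem mon_add_single (β : ι →₀ ℕ) (a : ι) (n : ℕ) :
    mon w (β + Finsupp.single a n) = w a ^ n * mon w β := by
  unfold mon
  rw [Finsupp.prod_add_index' (fun i => pow_zero _) (fun i m n => pow_add _ _ _), mul_comm]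
  congr 1
  exact Finsupp.prod_single_index (pow_zero _)

theorem finite_euler (F : Finset ι) (h : ∀ i ∈ F, ‖w i‖ < 1) :
    Summable (fun α : {α : ι →₀ ℕ // α.support ⊆ F} => ‖mon w α.1‖) ∧
      (∑' α : {α : ι →₀ ℕ // α.support ⊆ F}, ‖mon w α.1‖) = ∏ i ∈ F, (1 - ‖w i‖)⁻¹ ∧
      (∑' α : {α : ι →₀ ℕ // α.support ⊆ F}, mon w α.1) = ∏ i ∈ F, (1 - w i)⁻¹ := by
  classical
  induction F using Finset.induction_on with
  | empty =>
    haveI : Unique {α : ι →₀ ℕ // α.support ⊆ (∅ : Finset ι)} :=
      { default := ⟨0, by simp⟩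
        uniq := fun α => Subtype.ext (Finsupp.support_eq_empty.mp (Finset.subset_empty.mp α.2)) }
    have h0 : (default : {α : ι →₀ ℕ // α.support ⊆ (∅ : Finset ι)}).1 = 0 :=
      Finsupp.support_eq_empty.mp (Finset.subset_empty.mp (default : {α : ι →₀ ℕ // α.support ⊆ (∅ : Finset ι)}).2)
    refine ⟨Summable.of_finite, ?_, ?_⟩ <;> simp [h0, mon]
  | @insert a F ha ih =>
    obtain ⟨hs, hn, he⟩ := ih fun i hi => h i (Finset.mem_insert_of_mem hi)
    have haw := h a (Finset.mem_insert_self a F)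
    let e : ℕ × {α : ι →₀ ℕ // α.support ⊆ F} ≃ {α : ι →₀ ℕ // α.support ⊆ insert a F} :=
    { toFun := fun z => ⟨z.2.1 + Finsupp.single a z.1, Finsupp.support_add.trans (Finset.union_subset
          (z.2.2.trans (Finset.subset_insert a F))
          (Finsupp.support_single_subset.trans (by simp)))⟩
      invFun := fun α => ⟨α.1 a, ⟨α.1.erase a, by
        rw [Finsupp.support_erase]
        intro i hi
        have := α.2 (Finset.mem_of_mem_erase hi)
        rcases Finset.mem_insert.mp this with h1 | h1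
        · exact absurd h1 (Finset.ne_of_mem_erase hi)
        · exact h1⟩⟩
      left_inv := fun z => by
        have hza : z.2.1 a = 0 := Finsupp.notMem_support_iff.mp fun hh => ha (z.2.2 hh)
        refine Prod.ext (by simp [hza]) (Subtype.ext (Finsupp.ext fun i => ?_))
        by_cases hi : i = a
        · subst hi; simp [hza]
        · simp [Finsupp.erase_ne hi, Finsupp.single_eq_of_ne hi]
      right_inv := fun α => Subtype.ext (Finsupp.erase_add_single a α.1) }
    have hv : ∀ z, mon w (e z).1 = w a ^ z.1 * mon w z.2.1 := fun z => mon_add_single w z.2.1 a z.1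
    have hgeo : Summable fun n : ℕ => ‖w a ^ n‖ := by
      simp only [norm_pow]
      exact summable_geometric_of_lt_one (norm_nonneg _) haw
    refine ⟨?_, ?_, ?_⟩
    · rw [← e.summable_iff]
      simp only [Function.comp_def, hv, norm_mul]
      exact hgeo.mul_of_nonneg hs (fun n => norm_nonneg _) (fun n => norm_nonneg _)
    · rw [← e.tsum_eq, Finset.prod_insert ha, ← hn, ← tsum_geometric_of_lt_one (norm_nonneg _) haw,
        tsum_mul_tsum_of_summable_norm (f := fun n : ℕ => ‖w a‖ ^ n) (g := fun α : {α : ι →₀ ℕ // α.support ⊆ F} => ‖mon w α.1‖)]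
      · exact tsum_congr fun z => by rw [hv, norm_mul, norm_pow]
      · simpa [norm_pow] using hgeo
      · simpa using hs
    · rw [← e.tsum_eq, Finset.prod_insert ha, ← he, ← tsum_geometric_of_norm_lt_one haw,
        tsum_mul_tsum_of_summable_norm hgeo hs]
      exact tsum_congr fun z => hv z

variable {w} {q : ℝ}

theorem summable_norm_mon (hq : q < 1) (hw : ∀ i, ‖w i‖ ≤ q) (hs : Summable fun i => ‖w i‖) :
    Summable fun α : ι →₀ ℕ => ‖mon w α‖ := by
  classical
  refine summable_of_sum_le (c := Real.exp ((1 - q)⁻¹ * ∑' i, ‖w i‖)) (fun α => norm_nonneg _) fun T => ?_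
  let F := T.biUnion Finsupp.support
  obtain ⟨h1, h2, -⟩ := finite_euler w F fun i _ => (hw i).trans_lt hq
  calc ∑ α ∈ T, ‖mon w α‖ = ∑ α ∈ T.subtype (fun α => α.support ⊆ F), ‖mon w α.1‖ :=
        (Finset.sum_subtype_of_mem (fun α => ‖mon w α‖) fun α hα => Finset.subset_biUnion_of_mem Finsupp.support hα).symm
    _ ≤ ∑' α : {α : ι →₀ ℕ // α.support ⊆ F}, ‖mon w α.1‖ := h1.sum_le_tsum _ fun _ _ => norm_nonneg _
    _ = ∏ i ∈ F, (1 - ‖w i‖)⁻¹ := h2
    _ ≤ ∏ i ∈ F, Real.exp ((1 - q)⁻¹ * ‖w i‖) := by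
        refine Finset.prod_le_prod (fun i _ => inv_nonneg.mpr (by linarith [hw i])) fun i _ => ?_
        have h3 : (0 : ℝ) < 1 - ‖w i‖ := by linarith [hw i]
        calc (1 - ‖w i‖)⁻¹ = (1 - ‖w i‖)⁻¹ * ‖w i‖ + 1 := by field_simp; ring_nf
          _ ≤ (1 - q)⁻¹ * ‖w i‖ + 1 := by
              gcongr
              all_goals linarith [hw i]
          _ ≤ _ := Real.add_one_le_exp _
    _ = Real.exp ((1 - q)⁻¹ * ∑ i ∈ F, ‖w i‖) := by rw [← Real.exp_sum, Finset.mul_sum]
    _ ≤ _ := by
        exact Real.exp_le_exp.mpr (mul_le_mul_of_nonneg_left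
          (hs.sum_le_tsum _ fun _ _ => norm_nonneg _) (inv_nonneg.mpr (by linarith)))

theorem tsum_mon_ne_zero (hq : q < 1) (hw : ∀ i, ‖w i‖ ≤ q) (hs : Summable fun i => ‖w i‖) :
    (∑' α : ι →₀ ℕ, mon w α) ≠ 0 := by
  classical
  have hlim : Tendsto (fun F : Finset ι => ∏ i ∈ F, (1 - w i)⁻¹) atTop (𝓝 (∑' α : ι →₀ ℕ, mon w α)) := by
    have : (fun F : Finset ι => ∏ i ∈ F, (1 - w i)⁻¹) =
        fun F => ∑' α : ι →₀ ℕ, Set.indicator {α | α.support ⊆ F} (mon w) α := funext fun F => by
      rw [← (finite_euler w F fun i _ => (hw i).trans_lt hq).2.2]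
      exact tsum_subtype {α : ι →₀ ℕ | α.support ⊆ F} (mon w)
    rw [this]
    refine tendsto_tsum_of_dominated_convergence (summable_norm_mon hq hw hs) (fun α => ?_)
      (Eventually.of_forall fun F α => norm_indicator_le_norm_self _ _)
    refine tendsto_const_nhds.congr' ?_
    filter_upwards [eventually_ge_atTop α.support] with F hF
    exact (Set.indicator_of_mem (s := {α : ι →₀ ℕ | α.support ⊆ F}) hF (mon w)).symm
  have hle : Real.exp (-∑' i, ‖w i‖) ≤ ‖∑' α : ι →₀ ℕ, mon w α‖ := by
    refine ge_of_tendsto hlim.norm (Eventually.of_forall fun F => ?_)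
    rw [norm_prod]
    calc Real.exp (-∑' i, ‖w i‖) ≤ Real.exp (∑ i ∈ F, -‖w i‖) := by
          rw [Finset.sum_neg_distrib]
          gcongr
          exact hs.sum_le_tsum _ fun _ _ => norm_nonneg _
      _ = ∏ i ∈ F, Real.exp (-‖w i‖) := Real.exp_sum _ _
      _ ≤ _ := by
          refine Finset.prod_le_prod (fun i _ => (Real.exp_pos _).le) fun i _ => ?_
          rw [Real.exp_neg, norm_inv]
          refine inv_anti₀ (norm_pos_iff.mpr (sub_ne_zero.mpr fun hh => ?_))
            ((norm_sub_le _ _).trans (by rw [norm_one, add_comm]; exact Real.add_one_le_exp _))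
          have := (hw i).trans_lt hq
          rw [← hh, norm_one] at this
          exact lt_irrefl _ this
  intro h
  rw [h, norm_zero] at hle
  exact absurd hle (not_le.mpr (Real.exp_pos _))

end ZetaAbs
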