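import Groth.Prelude.Def_W4c1zetahwZeta
import Groth.Agent.PointCount.Ring
import Groth.Agent.ZetaAbs.Euler
import Mathlib

/-! Counting closed points of a scheme of finite type over `ℤ` by their norm. -/

set_option autoImplicit false
universe u
open CategoryTheory AlgebraicGeometry Filter Topology

namespace ZetaAbs

variable {X : Scheme.{u}}

/-- The norm of a point. -/
noncomputable def N (x : X) : ℕ := Nat.card (X.residueField x)

theorem N_ne_one (x : X) : N x ≠ 1 := fun h => by
  obtain ⟨h1, -⟩ := Nat.card_eq_one_iff_unique.mp h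
  exact false_of_nontrivial_of_subsingleton (X.residueField x)

theorem points_bound (f : X ⟶ Spec (CommRingCat.of (ULift.{u} ℤ))) [LocallyOfFiniteType f] [QuasiCompact f]
    (r : ℕ) (hr : topologicalKrullDim X ≤ r) :
    ∃ D p₀ : ℕ, ∀ (F : Type u) [Field F] [Finite F] (p : ℕ) [CharP F p],
      Finite (Spec (CommRingCat.of F) ⟶ X) ∧
      (p₀ ≤ p → Nat.card (Spec (CommRingCat.of F) ⟶ X) * Nat.card F ≤ D * Nat.card F ^ r) ∧
      Nat.card (Spec (CommRingCat.of F) ⟶ X) ≤ D * Nat.card F ^ r := by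
  classical
  have hfin : ∀ x : X.affineOpens, Algebra.FiniteType ℤ Γ(X, x.1) := fun x => by
    have h := f.finiteType_appLE (U := ⊤) (isAffineOpen_top _) x.2 (by simp)
    have e : RingHom.FiniteType
        ((Scheme.ΓSpecIso (CommRingCat.of (ULift.{u} ℤ))).inv.hom.comp (ULift.ringEquiv.symm.toRingHom)) :=
      RingHom.FiniteType.of_surjective _ ((Scheme.ΓSpecIso (CommRingCat.of (ULift.{u} ℤ))).symm.commRingCatIsoToRingEquiv.surjective.comp
        ULift.ringEquiv.symm.surjective)
    have h2 := h.comp e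
    rwa [RingHom.finiteType_algebraMap.symm, Subsingleton.elim (algebraMap ℤ Γ(X, x.1)) _]
  haveI : CompactSpace X := QuasiCompact.compactSpace_of_compactSpace f
  let 𝒰 := X.affineCover.finiteSubcover
  let U : 𝒰.I₀ → X.affineOpens := fun i => ⟨(𝒰.f i).opensRange, isAffineOpen_opensRange (𝒰.f i)⟩
  haveI hoi : ∀ i, IsOpenImmersion (U i).2.fromSpec := fun i => (U i).2.isOpenImmersion_fromSpec
  have hdim : ∀ i, ringKrullDim Γ(X, (U i).1) ≤ r := fun i => by
    rw [← PrimeSpectrum.topologicalKrullDim_eq_ringKrullDim]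
    refine le_trans ?_ hr
    exact ((U i).2.fromSpec.isOpenEmbedding.isInducing).topologicalKrullDim_le
  haveI := fun i => hfin (U i)
  choose D p₀ hD using fun i => PointCount.algebra_bound Γ(X, (U i).1) r (hdim i)
  refine ⟨∑ i, D i, ∑ i, p₀ i, fun F _ _ p _ => ?_⟩
  let G : (Σ i, (Γ(X, (U i).1) →+* F)) → (Spec (CommRingCat.of F) ⟶ X) := fun z =>
    Spec.map (CommRingCat.ofHom z.2) ≫ (U z.1).2.fromSpec
  have hG : Function.Surjective G := fun g => by
    obtain ⟨i, hi⟩ : ∃ i, g.base (IsLocalRing.closedPoint F) ∈ (U i).1 := ⟨_, 𝒰.covers _⟩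
    have hr' : Set.range g.base ⊆ Set.range (U i).2.fromSpec.base := by
      rintro _ ⟨z, rfl⟩
      rw [(U i).2.range_fromSpec, Subsingleton.elim z (IsLocalRing.closedPoint F)]
      exact hi
    refine ⟨⟨i, (Spec.preimage (IsOpenImmersion.lift (U i).2.fromSpec g hr')).hom⟩, ?_⟩
    show Spec.map (CommRingCat.ofHom _) ≫ _ = _
    rw [CommRingCat.ofHom_hom, Spec.map_preimage, IsOpenImmersion.lift_fac]
  haveI : ∀ i, Finite (Γ(X, (U i).1) →+* F) := fun i => (hD i F p).1
  have hcard : Nat.card (Spec (CommRingCat.of F) ⟶ X) ≤ ∑ i, Nat.card (Γ(X, (U i).1) →+* F) :=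
    (Nat.card_le_card_of_surjective G hG).trans_eq Nat.card_sigma
  refine ⟨Finite.of_surjective G hG, fun hp => ?_, ?_⟩
  · refine (Nat.mul_le_mul_right _ hcard).trans ?_
    rw [Finset.sum_mul, Finset.sum_mul]
    exact Finset.sum_le_sum fun i _ => (hD i F p).2.1
      ((Finset.single_le_sum (fun _ _ => Nat.zero_le _) (Finset.mem_univ i)).trans hp)
  · refine hcard.trans ?_
    rw [Finset.sum_mul]
    exact Finset.sum_le_sum fun i _ => (hD i F p).2.2

theorem card_le (f : X ⟶ Spec (CommRingCat.of (ULift.{u} ℤ))) [LocallyOfFiniteType f] [QuasiCompact f]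
    (r : ℕ) (hr : topologicalKrullDim X ≤ r) :
    ∃ D p₀ : ℕ, ∀ (q : ℕ) (T : Finset X), (∀ x ∈ T, N x = q) → 2 ≤ q →
      T.card * q ≤ D * q ^ r ∨ (∃ p < p₀, p.Prime ∧ (∃ m : ℕ, p ^ m = q) ∧ T.card ≤ D * q ^ r) := by
  classical
  obtain ⟨D, p₀, hb⟩ := points_bound f r hr
  refine ⟨D, p₀, fun q T hT hq => ?_⟩
  rcases T.eq_empty_or_nonempty with rfl | ⟨x₀, hx₀⟩
  · left; simp
  have hfinx : ∀ x ∈ T, Finite (X.residueField x) := fun x hx =>
    Nat.finite_of_card_ne_zero (by have := hT x hx; unfold N at this; omega)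
  haveI := hfinx x₀ hx₀
  letI : Fintype (X.residueField x₀) := Fintype.ofFinite _
  obtain ⟨p, hp⟩ := CharP.exists (X.residueField x₀)
  haveI := hp
  obtain ⟨m, hpr, hm⟩ := FiniteField.card (X.residueField x₀) p
  have hq0 : N x₀ = q := hT x₀ hx₀
  have hqp : p ^ (m : ℕ) = q := by rw [← hm, ← Nat.card_eq_fintype_card]; exact hq0
  obtain ⟨hH, h1, h2⟩ := hb (X.residueField x₀) p
  have hcard : T.card ≤ Nat.card (Spec (CommRingCat.of (X.residueField x₀)) ⟶ X) := by
    have he : ∀ x : T, Nonempty (X.residueField x.1 ≃+* X.residueField x₀) := fun x => by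
      haveI := hfinx x.1 x.2
      letI : Fintype (X.residueField x.1) := Fintype.ofFinite _
      refine ⟨FiniteField.ringEquivOfCardEq ?_⟩
      rw [← Nat.card_eq_fintype_card, ← Nat.card_eq_fintype_card]
      exact (hT x.1 x.2).trans hq0.symm
    let Φ : T → (Spec (CommRingCat.of (X.residueField x₀)) ⟶ X) := fun x =>
      Spec.map (CommRingCat.ofHom (he x).some.toRingHom) ≫ X.fromSpecResidueField x.1
    have hΦ : Function.Injective Φ := fun x y h => by
      have := congrArg (fun g : Spec (CommRingCat.of (X.residueField x₀)) ⟶ X =>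
        g.base (IsLocalRing.closedPoint (X.residueField x₀))) h
      simp only [Φ, Scheme.Hom.comp_base, TopCat.comp_app] at this
      erw [Scheme.fromSpecResidueField_apply, Scheme.fromSpecResidueField_apply] at this
      exact Subtype.ext this
    calc T.card = Nat.card T := (Nat.card_eq_finsetCard T).symm
      _ ≤ _ := Nat.card_le_card_of_injective Φ hΦ
  have hqF : Nat.card (X.residueField x₀) = q := hq0
  rw [hqF] at h1 h2
  rcases le_or_gt p₀ p with hle | hlt
  · exact Or.inl ((Nat.mul_le_mul_right _ hcard).trans (h1 hle))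
  · exact Or.inr ⟨p, hlt, hpr, ⟨m, hqp⟩, hcard.trans h2⟩

/-- Closed points with finite residue field. -/
abbrev Pt (X : Scheme.{u}) := {x : X // IsClosed ({x} : Set X) ∧ 2 ≤ N x}

theorem summable_N (f : X ⟶ Spec (CommRingCat.of (ULift.{u} ℤ))) [LocallyOfFiniteType f] [QuasiCompact f]
    (r : ℕ) (hr : topologicalKrullDim X ≤ r) {σ : ℝ} (hσ : (r : ℝ) < σ) :
    Summable fun x : Pt X => (N x.1 : ℝ) ^ (-σ) := by
  classical
  obtain ⟨D, p₀, hb⟩ := card_le f r hr
  let B : ℕ → ℕ → ℝ := fun p => Set.indicator (Set.range fun m : ℕ => p ^ m) fun q => (D : ℝ) * (q : ℝ) ^ ((r : ℝ) - σ)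
  let F : ℕ → ℝ := fun q => (D : ℝ) * (q : ℝ) ^ ((r : ℝ) - 1 - σ) + ∑ p ∈ (Finset.range p₀).filter Nat.Prime, B p q
  have hBnn : ∀ p q, 0 ≤ B p q := fun p q => Set.indicator_nonneg (fun _ _ => by positivity) _
  have hFnn : ∀ q, 0 ≤ F q := fun q => by
    have := Finset.sum_nonneg fun p (_ : p ∈ (Finset.range p₀).filter Nat.Prime) => hBnn p q
    positivity
  have hF : Summable F := by
    refine ((Real.summable_nat_rpow.mpr (by linarith)).mul_left (D : ℝ)).add (summable_sum fun p hp => ?_)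
    have hp2 := (Finset.mem_filter.mp hp).2.two_le
    refine ((Nat.pow_right_injective hp2).summable_iff fun q hq => Set.indicator_of_notMem hq _).mp ?_
    have : ∀ m : ℕ, B p (p ^ m) = (D : ℝ) * ((p : ℝ) ^ ((r : ℝ) - σ)) ^ m := fun m => by
      rw [show B p (p ^ m) = _ from Set.indicator_of_mem (Set.mem_range_self m) _, Nat.cast_pow,
        ← Real.rpow_natCast, ← Real.rpow_mul (by positivity), mul_comm (m : ℝ),
        Real.rpow_mul (by positivity), Real.rpow_natCast]
    have hp1 : (1 : ℝ) < (p : ℝ) := by exact_mod_cast hp2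
    exact ((summable_geometric_of_lt_one (Real.rpow_nonneg (by positivity) _)
      (Real.rpow_lt_one_of_one_lt_of_neg hp1 (by linarith : (r : ℝ) - σ < 0))).mul_left _).congr
      fun m => (this m).symm
  refine summable_of_sum_le (c := ∑' q, F q) (fun x => by positivity) fun T => ?_
  rw [← Finset.sum_fiberwise_of_maps_to (t := T.image fun x : Pt X => N x.1) (g := fun x : Pt X => N x.1)
    (fun x hx => Finset.mem_image_of_mem _ hx)]
  refine le_trans (Finset.sum_le_sum fun q hq => ?_) (hF.sum_le_tsum _ fun q _ => hFnn q)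
  obtain ⟨x, -, rfl⟩ := Finset.mem_image.mp hq
  rw [Finset.sum_congr rfl fun y hy => by rw [(Finset.mem_filter.mp hy).2], Finset.sum_const, nsmul_eq_mul]
  have hq0 : (0 : ℝ) < (N x.1 : ℝ) := by exact_mod_cast (lt_of_lt_of_le (by norm_num) x.2.2 : 0 < N x.1)
  let T' : Finset X := (T.filter fun y : Pt X => N y.1 = N x.1).map (Function.Embedding.subtype _)
  have hT' : ∀ y ∈ T', N y = N x.1 := fun y hy => by
    obtain ⟨z, hz, rfl⟩ := Finset.mem_map.mp hy
    exact (Finset.mem_filter.mp hz).2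
  have hc : T'.card = (T.filter fun y : Pt X => N y.1 = N x.1).card := Finset.card_map _
  rw [← hc]
  have hsum := Finset.sum_nonneg fun p (_ : p ∈ (Finset.range p₀).filter Nat.Prime) => hBnn p (N x.1)
  rcases hb (N x.1) T' hT' x.2.2 with h | ⟨p, hp, hpr, hm, h⟩
  · refine le_trans ?_ (le_add_of_nonneg_right hsum)
    have h' : (T'.card : ℝ) ≤ D * ((N x.1 : ℝ) ^ r / N x.1) := by
      rw [← mul_div_assoc, le_div_iff₀ hq0]; exact_mod_cast h
    refine (mul_le_mul_of_nonneg_right h' (by positivity)).trans_eq ?_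
    rw [sub_eq_add_neg ((r : ℝ) - 1) σ, Real.rpow_add hq0, Real.rpow_sub hq0, Real.rpow_one, Real.rpow_natCast]
    ring
  · refine le_trans ?_ (le_trans (Finset.single_le_sum (f := fun p => B p (N x.1)) (fun p _ => hBnn p _)
      (Finset.mem_filter.mpr ⟨Finset.mem_range.mpr hp, hpr⟩)) (le_add_of_nonneg_left (by positivity)))
    have h' : (T'.card : ℝ) ≤ D * (N x.1 : ℝ) ^ r := by exact_mod_cast h
    refine (mul_le_mul_of_nonneg_right h' (by positivity)).trans_eq ?_
    rw [show B p (N x.1) = (D : ℝ) * (N x.1 : ℝ) ^ ((r : ℝ) - σ) from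
        Set.indicator_of_mem (show N x.1 ∈ Set.range fun m : ℕ => p ^ m from hm) _, sub_eq_add_neg (r : ℝ) σ, Real.rpow_add hq0,
      Real.rpow_natCast]
    ring

end ZetaAbs
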